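import Groth.Agent.CurveFF.EmbedExist
import Groth.Agent.FF.Clifford
import Groth.Agent.FF.Misc
import Groth.Agent.FF.AlgClosed

/-!
# Function fields of Clifford index one

A divisor of degree `2r + 1` with `r + 1` sections reduces, through quadrisecants and double points,
to a `g¹₃` or to a very ample `g²₅` in genus six.
-/

set_option autoImplicit false
set_option linter.style.haveILetI false
set_option maxHeartbeats 1000000

noncomputable section

namespace Groth.Agent.CliffOneLib

open FunFld
open scoped WithZero IntermediateField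

universe u v

variable {k : Type u} {K : Type v} [Field k] [IsAlgClosed k] [Field K] [Algebra k K] (hK : IsFunctionField k K)

/-- The divisor of a finite set of places. -/
def σ (S : Finset (Place k K)) : Divisor k K := ∑ P ∈ S, Finsupp.single P 1

omit [IsAlgClosed k] in
theorem σ_insert [DecidableEq (Place k K)] {S : Finset (Place k K)} {P : Place k K} (h : P ∉ S) :
    σ (insert P S) = σ S + Finsupp.single P 1 := by
  rw [σ, Finset.sum_insert h, add_comm]
  rfl

omit [IsAlgClosed k] in
theorem σ_erase [DecidableEq (Place k K)] {S : Finset (Place k K)} {P : Place k K} (h : P ∈ S) :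
    σ S = σ (S.erase P) + Finsupp.single P 1 := by
  rw [← σ_insert (Finset.notMem_erase P S), Finset.insert_erase h]

omit [IsAlgClosed k] in
theorem σ_apply [DecidableEq (Place k K)] (S : Finset (Place k K)) (Q : Place k K) :
    σ S Q = if Q ∈ S then 1 else 0 := by
  rw [σ, Finsupp.finsetSum_apply]
  simp_rw [Finsupp.single_apply]
  rw [Finset.sum_ite_eq']

omit [IsAlgClosed k] in
theorem σ_mono {S T : Finset (Place k K)} (h : S ⊆ T) : σ S ≤ σ T := by
  classical
  intro Q
  rw [σ_apply, σ_apply]
  by_cases hQ : Q ∈ S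
  · simp [hQ, h hQ]
  · rw [if_neg hQ]; split_ifs <;> simp

omit [IsAlgClosed k] in
theorem σ_nonneg (S : Finset (Place k K)) : 0 ≤ σ S :=
  Finset.sum_nonneg fun _ _ => Finsupp.single_nonneg.2 zero_le_one

omit [IsAlgClosed k] in
theorem mem_L_of_forall {f : K} {X Y Z : Divisor k K} (hX : f ∈ L X) (hY : f ∈ L Y)
    (h : ∀ Q, Z Q = X Q ∨ Z Q = Y Q) : f ∈ L Z := fun Q => by
  rcases h Q with e | e <;> rw [e]
  · exact hX Q
  · exact hY Q

section
include hK

theorem deg_σ (S : Finset (Place k K)) : (σ S).deg = S.card := by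
  classical
  induction S using Finset.induction with
  | empty => simp [σ, FF.deg_zero]
  | insert P S hP ih =>
    rw [σ_insert hP, FF.deg_add, ih, FF.deg_single_ac hK, Finset.card_insert_of_notMem hP]
    push_cast
    ring

/-- A general place drops the dimension and avoids a finite set. -/
theorem exists_drop_notMem (M : Divisor k K) (hM : 0 < ell M) (S : Finset (Place k K)) :
    ∃ R ∉ S, ell (M - Finsupp.single R 1) + 1 = ell M := by
  classical
  haveI := FF.infinite_places hK
  obtain ⟨f, hf0, hfL⟩ := FF.exists_ne_zero_of_ell_pos hM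
  obtain ⟨R, hR⟩ := (((FF.finite_support hK f).union M.support.finite_toSet).union S.finite_toSet).infinite_compl.nonempty
  simp only [Set.mem_compl_iff, Set.mem_union, not_or, Function.mem_support, not_not, Finset.mem_coe,
    Finsupp.mem_support_iff] at hR
  obtain ⟨⟨hR1, hR2⟩, hR3⟩ := hR
  refine ⟨R, hR3, ?_⟩
  have h1 := CurveFF.EmbedExist.ell_le_succ hK M R
  have h3 : ell (M - Finsupp.single R 1) < ell M := by
    haveI := FF.finite_L hK M
    refine Submodule.finrank_lt_finrank_of_lt (lt_of_le_of_ne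
      (FF.L_mono (sub_le_self _ (Finsupp.single_nonneg.2 zero_le_one))) fun heq => ?_)
    have h4 := (FF.mem_L_iff_ord hf0).1 (heq ▸ hfL : f ∈ L (M - Finsupp.single R 1)) R
    rw [hR1, Finsupp.sub_apply, hR2, Finsupp.single_eq_same] at h4
    omega
  omega

/-- Independent distinct places. -/
theorem exists_indep (D : Divisor k K) (m : ℕ) (hm : m ≤ ell D) :
    ∃ S : Finset (Place k K), S.card = m ∧ ell (D - σ S) + m = ell D := by
  classical
  induction m with
  | zero => exact ⟨∅, rfl, by simp [σ]⟩
  | succ m ih =>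
    obtain ⟨S, hS, hl⟩ := ih (by omega)
    obtain ⟨R, hR, hd⟩ := exists_drop_notMem hK (D - σ S) (by omega) S
    refine ⟨insert R S, by rw [Finset.card_insert_of_notMem hR, hS], ?_⟩
    rw [σ_insert hR, ← sub_sub]
    omega

theorem L_eq_of_ell {X Y : Divisor k K} (h : X ≤ Y) (he : ell Y ≤ ell X) : L X = L Y := by
  haveI := FF.finite_L hK Y
  exact Submodule.eq_of_le_of_finrank_le (FF.L_mono h) he

/-- Products of sections with exact orders. -/
theorem mul_drop (D A B : Divisor k K) (P : Place k K) (hA : ell (D - A - Finsupp.single P 1) < ell (D - A))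
    (hB : ell (D - B - Finsupp.single P 1) < ell (D - B)) :
    ell (D + D - (A + B) - Finsupp.single P 1) + 1 ≤ ell (D + D - (A + B)) := by
  classical
  obtain ⟨a, ha0, haL, hao⟩ := FF.exists_mem_L_ord hA
  obtain ⟨b, hb0, hbL, hbo⟩ := FF.exists_mem_L_ord hB
  have hab : a * b ∈ L (D + D - (A + B)) := by
    rw [show D + D - (A + B) = (D - A) + (D - B) by abel]
    exact FF.mul_mem_L haL hbL
  haveI := FF.finite_L hK (D + D - (A + B))
  refine Submodule.finrank_lt_finrank_of_lt (lt_of_le_of_ne
    (FF.L_mono (sub_le_self _ (Finsupp.single_nonneg.2 zero_le_one))) fun heq => ?_)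
  have h := (FF.mem_L_iff_ord (mul_ne_zero ha0 hb0)).1 (heq ▸ hab) P
  rw [FF.ord_mul P ha0 hb0, hao, hbo] at h
  simp only [Finsupp.sub_apply, Finsupp.add_apply, Finsupp.single_eq_same] at h
  omega

variable {D : Divisor k K} {r : ℕ} {S : Finset (Place k K)}

/-- Every subset of an independent set is independent. -/
theorem ell_subset (hS : S.card = r) (hl : ell (D - σ S) + r = ell D) {T : Finset (Place k K)} (hT : T ⊆ S) :
    ell (D - σ T) + T.card = ell D := by
  have h1 := FF.ell_sub_le hK (sub_le_self D (σ_nonneg T) : D - σ T ≤ D)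
  rw [FF.deg_sub, deg_σ hK] at h1
  have h2 := FF.ell_sub_le hK (sub_le_sub_left (σ_mono hT) D : D - σ S ≤ D - σ T)
  rw [FF.deg_sub, FF.deg_sub, deg_σ hK, deg_σ hK] at h2
  omega

/-- The systems through all but one of the independent places span. -/
theorem le_of_erase [DecidableEq (Place k K)] (hS : S.card = r) (hl : ell (D - σ S) + r = ell D) (W : Submodule k K)
    (h0 : L (D - σ S) ≤ W) : ∀ U ⊆ S, (∀ i ∈ U, L (D - σ (S.erase i)) ≤ W) → L (D - σ (S \ U)) ≤ W := by
  intro U
  induction U using Finset.induction with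
  | empty => intro _ _; simpa using h0
  | insert i U hi ih =>
    intro hU hW
    rw [Finset.insert_subset_iff] at hU
    have hsmall := ih hU.2 fun j hj => hW j (Finset.mem_insert_of_mem hj)
    have hiS : i ∈ S \ U := Finset.mem_sdiff.2 ⟨hU.1, hi⟩
    have hset : S \ insert i U = (S \ U).erase i := by
      ext x; simp only [Finset.mem_sdiff, Finset.mem_insert, Finset.mem_erase]; tauto
    have hlt : ell (D - σ S) < ell (D - σ (S.erase i)) := by
      have := ell_subset hK hS hl (Finset.erase_subset i S)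
      rw [Finset.card_erase_of_mem hU.1] at this
      have := Finset.card_pos.2 ⟨i, hU.1⟩
      omega
    have hne : ¬ L (D - σ (S.erase i)) ≤ L (D - σ S) := fun h => by
      haveI := FF.finite_L hK (D - σ S)
      exact hlt.not_ge (Submodule.finrank_mono h)
    obtain ⟨f, hf, hf'⟩ := SetLike.not_le_iff_exists.1 hne
    have hfs : f ∉ L (D - σ (S \ U)) := fun h => hf' (mem_L_of_forall hf h fun Q => by
      rcases eq_or_ne Q i with rfl | hQ
      · right
        simp [σ_apply, hiS, hU.1]
      · left
        simp [σ_apply, hQ])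
    haveI := FF.finite_L hK (D - σ ((S \ U).erase i))
    have hle : L (D - σ (S \ U)) ⊔ Submodule.span k {f} ≤ L (D - σ ((S \ U).erase i)) := by
      refine sup_le (FF.L_mono (sub_le_sub_left (σ_mono (Finset.erase_subset _ _)) D)) ?_
      rw [Submodule.span_singleton_le_iff_mem]
      exact FF.L_mono (sub_le_sub_left (σ_mono (Finset.erase_subset_erase i Finset.sdiff_subset)) D) hf
    haveI := FF.finite_L hK (D - σ (S \ U))
    have hlt2 : L (D - σ (S \ U)) < L (D - σ (S \ U)) ⊔ Submodule.span k {f} :=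
      left_lt_sup.2 fun h => hfs (h (Submodule.mem_span_singleton_self f))
    have h1 := Submodule.finrank_lt_finrank_of_lt hlt2
    have h2 := CurveFF.EmbedExist.ell_le_succ hK (D - σ ((S \ U).erase i)) i
    rw [sub_sub, ← σ_erase hiS] at h2
    have h3 := Submodule.eq_of_le_of_finrank_le hle (show ell _ ≤ _ from h2.trans h1)
    rw [hset, ← h3]
    refine sup_le hsmall ?_
    rw [Submodule.span_singleton_le_iff_mem]
    exact hW i (Finset.mem_insert_self _ _) hf

end

/-- A `g¹₃`. -/
def HasG13 (k : Type u) (K : Type v) [Field k] [Field K] [Algebra k K] : Prop :=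
  ∃ E : Divisor k K, E.deg = 3 ∧ 2 ≤ ell E

/-- A very ample `g²₅` in genus six. -/
def HasQuintic (k : Type u) (K : Type v) [Field k] [Field K] [Algebra k K] : Prop :=
  genus k K = 6 ∧ ∃ D : Divisor k K, D.deg = 5 ∧ ell D = 3 ∧
    ∀ P Q, ell (D - Finsupp.single P 1 - Finsupp.single Q 1) + 2 = ell D

variable {C : Divisor k K} (hC : IsCanonical k K C)
  (hmin : ∀ D : Divisor k K, 2 ≤ ell D → 2 ≤ ell (C - D) → 2 * (ell D : ℤ) - 1 ≤ D.deg)
include hK hC hmin

/-- The induction. -/
theorem core : ∀ (r : ℕ) (D : Divisor k K), 1 ≤ r → D.deg = 2 * r + 1 → r + 1 ≤ ell D → 2 * r + 2 ≤ genus k K →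
    HasG13 k K ∨ HasQuintic k K := by
  classical
  intro r
  induction r using Nat.strong_induction_on with
  | _ r ih =>
  intro D hr hd hl hg
  obtain ⟨hC1, hC2⟩ := FF.canonical_deg hK hC
  rcases Nat.lt_or_ge r 2 with hr2 | hr2
  · exact Or.inl ⟨D, by omega, by omega⟩
  have hrr := FF.riemann_roch hK hC D
  have hm := hmin D (by omega) (by omega)
  have hlD : ell D = r + 1 := by omega
  by_cases hsp : ∃ P Q, r ≤ ell (D - Finsupp.single P 1 - Finsupp.single Q 1)
  · obtain ⟨P, Q, hPQ⟩ := hsp
    exact ih (r - 1) (by omega) (D - Finsupp.single P 1 - Finsupp.single Q 1) (by omega)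
      (by rw [FF.deg_sub, FF.deg_sub, FF.deg_single_ac hK, FF.deg_single_ac hK, hd]; omega) (by omega) (by omega)
  push Not at hsp
  have hb : ∀ P, ell (D - Finsupp.single P 1) = r := fun P => by
    have := hsp P P
    have := CurveFF.EmbedExist.ell_le_succ hK D P
    have := CurveFF.EmbedExist.ell_le_succ hK (D - Finsupp.single P 1) P
    omega
  have hva : ∀ P Q, ell (D - Finsupp.single P 1 - Finsupp.single Q 1) + 2 = ell D := fun P Q => by
    have := hsp P Q
    have := hb P
    have := CurveFF.EmbedExist.ell_le_succ hK (D - Finsupp.single P 1) Q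
    omega
  obtain ⟨S, hS, hlS⟩ := exists_indep hK D r (by omega)
  obtain ⟨z, hz, hA, -, hAd⟩ := CurveFF.exists_effective hK (D := D - σ S) (by omega)
  rw [FF.deg_sub, deg_σ hK, hd, hS] at hAd
  set D0 := D - σ S + div k z with hD0
  have hpt : ∀ E : Divisor k K, 0 ≤ E → 0 < E.deg → ∃ R, Finsupp.single R 1 ≤ E := fun E hE hEd => by
    obtain ⟨R, hR⟩ : ∃ R, 1 ≤ E R := by
      by_contra hno
      push Not at hno
      have hE0 : E = 0 := Finsupp.ext fun R => by
        have := hE R
        have := hno R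
        simp only [Finsupp.coe_zero, Pi.zero_apply] at *
        omega
      rw [hE0, FF.deg_zero] at hEd
      omega
    refine ⟨R, fun Q => ?_⟩
    have := hE Q
    rcases eq_or_ne Q R with rfl | hQ
    · simpa using hR
    · simpa [Finsupp.single_eq_of_ne hQ] using this
  obtain ⟨R₁, hR₁⟩ := hpt D0 hA (by omega)
  obtain ⟨R₂, hR₂⟩ := hpt (D0 - Finsupp.single R₁ 1) (sub_nonneg.2 hR₁)
    (by rw [FF.deg_sub, FF.deg_single_ac hK]; omega)
  have hz2 : ∀ F : Divisor k K, F ≤ D0 → L (D - σ S - F) ≤ L (D - σ S) → 0 ≤ F →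
      L (D - σ S - F) = L (D - σ S) ∧ ell D ≤ ell (D + D - (σ S + F)) := by
    intro F hF _ hF0
    have hne : 0 < ell (D - σ S - F) := by
      have h := FF.ell_mono hK (show (0 : Divisor k K) ≤ D - σ S - F + div k z by
        rw [show D - σ S - F + div k z = D0 - F by rw [hD0]; abel]; exact sub_nonneg.2 hF)
      rw [FF.ell_zero hK, FF.ell_add_div hK _ hz] at h
      exact h
    refine ⟨L_eq_of_ell hK (sub_le_self _ hF0) (by omega), ?_⟩
    rw [← FF.ell_add_div hK (D + D - (σ S + F)) hz]
    refine FF.ell_mono hK ?_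
    rw [show D + D - (σ S + F) + div k z = D + (D0 - F) by rw [hD0]; abel]
    exact le_add_of_nonneg_right (sub_nonneg.2 hF)
  have hF12 : Finsupp.single R₁ 1 + Finsupp.single R₂ 1 ≤ D0 := le_sub_iff_add_le'.1 hR₂
  have hpos : ∀ P : Place k K, (0 : Divisor k K) ≤ Finsupp.single P 1 := fun P => Finsupp.single_nonneg.2 zero_le_one
  obtain ⟨hL1, hG1⟩ := hz2 _ hR₁ (FF.L_mono (sub_le_self _ (hpos _))) (hpos _)
  obtain ⟨hL12, hG12⟩ := hz2 _ hF12 (FF.L_mono (sub_le_self _ (add_nonneg (hpos _) (hpos _))))
    (add_nonneg (hpos _) (hpos _))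
  -- the drops along the independent places
  have hchain : ∀ T ⊆ S, ell (D + D - σ T) + T.card ≤ ell (D + D) := by
    intro T
    induction T using Finset.induction with
    | empty => intro _; simp [σ]
    | insert P T hP ihT =>
      intro hT
      rw [Finset.insert_subset_iff] at hT
      have h1 := ell_subset hK hS hlS hT.2
      have h2 := ell_subset hK hS hlS (Finset.insert_subset hT.1 hT.2)
      rw [σ_insert hP, ← sub_sub, Finset.card_insert_of_notMem hP] at h2
      have := mul_drop hK D (σ T) 0 P (by omega) (by rw [sub_zero, hb]; omega)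
      rw [add_zero] at this
      rw [σ_insert hP, ← sub_sub, Finset.card_insert_of_notMem hP]
      have := ihT hT.2
      omega
  have hstep1 := hchain S subset_rfl
  rw [hS] at hstep1
  -- the first extra drop
  obtain ⟨i₁, hi₁, hA1⟩ : ∃ i ∈ S, ell (D - σ (S.erase i) - Finsupp.single R₁ 1) < ell (D - σ (S.erase i)) := by
    by_contra hno
    push Not at hno
    have h := le_of_erase hK hS hlS (L (D - Finsupp.single R₁ 1))
      (hL1 ▸ FF.L_mono (sub_le_sub_right (sub_le_self _ (σ_nonneg S)) _)) S subset_rfl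
      (fun i hi => by
        rw [← L_eq_of_ell hK (sub_le_self _ (hpos R₁)) (hno i hi)]
        exact FF.L_mono (sub_le_sub_right (sub_le_self _ (σ_nonneg _)) _))
    rw [sdiff_self, Finset.bot_eq_empty, show σ (∅ : Finset (Place k K)) = 0 from rfl, sub_zero] at h
    haveI := FF.finite_L hK (D - Finsupp.single R₁ 1)
    have := Submodule.finrank_mono h
    change ell D ≤ ell _ at this
    rw [hb] at this
    omega
  have hstep2 := mul_drop hK D (σ (S.erase i₁)) (Finsupp.single i₁ 1) R₁ hA1
    (by have := hva i₁ R₁; have := hb i₁; omega)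
  rw [← σ_erase hi₁] at hstep2
  rcases eq_or_lt_of_le hr2 with h2 | hr3
  · subst h2
    rw [sub_sub] at hstep2
    have hGl : 6 ≤ ell (D + D) := by omega
    have hrr2 := FF.riemann_roch hK hC (D + D)
    rw [FF.deg_add] at hrr2
    have hg6 : genus k K = 6 := by
      by_contra hg7
      have hm2 := hmin (D + D) (by omega) (by omega)
      rw [FF.deg_add] at hm2
      omega
    exact Or.inr ⟨hg6, D, by omega, by omega, hva⟩
  -- the second extra drop
  obtain ⟨i, hi, j, hj, hij, hAi, hAj⟩ : ∃ i ∈ S, ∃ j ∈ S, i ≠ j ∧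
      ell (D - σ (S.erase i) - Finsupp.single R₂ 1) < ell (D - σ (S.erase i)) ∧
      ell (D - σ (S.erase j) - Finsupp.single R₂ 1) < ell (D - σ (S.erase j)) := by
    by_contra hno
    push Not at hno
    obtain ⟨i₀, hi₀, hrest⟩ : ∃ i₀ ∈ S, ∀ j ∈ S, j ≠ i₀ →
        ell (D - σ (S.erase j)) ≤ ell (D - σ (S.erase j) - Finsupp.single R₂ 1) := by
      by_cases h : ∃ i ∈ S, ell (D - σ (S.erase i) - Finsupp.single R₂ 1) < ell (D - σ (S.erase i))
      · obtain ⟨i, hi, h'⟩ := h
        exact ⟨i, hi, fun j hj hne => hno i hi j hj (Ne.symm hne) h'⟩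
      · push Not at h
        exact ⟨i₁, hi₁, fun j hj _ => h j hj⟩
    have hsub : ∀ {T : Finset (Place k K)}, i₀ ∈ T → Finsupp.single i₀ 1 ≤ σ T := fun {T} hT => by
      rw [σ_erase hT]; exact le_add_of_nonneg_left (σ_nonneg _)
    have h := le_of_erase hK hS hlS (L (D - Finsupp.single i₀ 1 - Finsupp.single R₂ 1))
      (by
        rw [← hL12]
        refine FF.L_mono ?_
        rw [sub_sub, sub_sub, ← add_assoc]
        exact sub_le_sub_left (add_le_add ((hsub hi₀).trans (le_add_of_nonneg_right (hpos R₁))) le_rfl) D)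
      (S.erase i₀) (Finset.erase_subset _ _) (fun j hj => by
        obtain ⟨hne, hjS⟩ := Finset.mem_erase.1 hj
        rw [← L_eq_of_ell hK (sub_le_self _ (hpos R₂)) (hrest j hjS hne)]
        exact FF.L_mono (sub_le_sub_right (sub_le_sub_left (hsub (Finset.mem_erase.2 ⟨Ne.symm hne, hi₀⟩)) D) _))
    rw [Finset.sdiff_erase_self hi₀, show σ ({i₀} : Finset (Place k K)) = Finsupp.single i₀ 1 from Finset.sum_singleton _ _] at h
    haveI := FF.finite_L hK (D - Finsupp.single i₀ 1 - Finsupp.single R₂ 1)
    have h5 := Submodule.finrank_mono h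
    change ell _ ≤ ell _ at h5
    have := hva i₀ R₂
    have := hb i₀
    omega
  by_cases hbad : ell (D - (Finsupp.single i 1 + Finsupp.single R₁ 1) - Finsupp.single R₂ 1) <
      ell (D - (Finsupp.single i 1 + Finsupp.single R₁ 1)) ∨
    ell (D - (Finsupp.single j 1 + Finsupp.single R₁ 1) - Finsupp.single R₂ 1) <
      ell (D - (Finsupp.single j 1 + Finsupp.single R₁ 1))
  · have hstep3 : ell (D + D - (σ S + Finsupp.single R₁ 1) - Finsupp.single R₂ 1) + 1 ≤
        ell (D + D - (σ S + Finsupp.single R₁ 1)) := by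
      rcases hbad with h | h
      · have := mul_drop hK D (σ (S.erase i)) (Finsupp.single i 1 + Finsupp.single R₁ 1) R₂ hAi h
        rwa [← add_assoc, ← σ_erase hi] at this
      · have := mul_drop hK D (σ (S.erase j)) (Finsupp.single j 1 + Finsupp.single R₁ 1) R₂ hAj h
        rwa [← add_assoc, ← σ_erase hj] at this
    rw [sub_sub] at hstep2
    rw [sub_sub, add_assoc] at hstep3
    have hrr2 := FF.riemann_roch hK hC (D + D)
    rw [FF.deg_add] at hrr2
    have hm2 := hmin (D + D) (by omega) (by omega)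
    rw [FF.deg_add] at hm2
    omega
  push Not at hbad
  -- four points on a line
  have heq : ∀ {x : Place k K}, ell (D - (Finsupp.single x 1 + Finsupp.single R₁ 1)) ≤
      ell (D - (Finsupp.single x 1 + Finsupp.single R₁ 1) - Finsupp.single R₂ 1) →
      L (D - (Finsupp.single x 1 + Finsupp.single R₁ 1) - Finsupp.single R₂ 1) =
        L (D - Finsupp.single R₁ 1 - Finsupp.single R₂ 1) := fun {x} hx => by
    refine L_eq_of_ell hK ?_ ?_
    · exact sub_le_sub_right (sub_le_sub_left (le_add_of_nonneg_left (hpos x)) D) _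
    · have h1 := hva R₁ R₂
      have h2 := hva x R₁
      rw [sub_sub D (Finsupp.single x 1)] at h2
      omega
  have hVi := heq hbad.1
  have hVj := heq hbad.2
  refine ih (r - 2) (by omega) (D - (Finsupp.single i 1 + Finsupp.single j 1 + Finsupp.single R₁ 1 + Finsupp.single R₂ 1))
    (by omega) (by rw [FF.deg_sub, FF.deg_add, FF.deg_add, FF.deg_add, FF.deg_single_ac hK, FF.deg_single_ac hK,
      FF.deg_single_ac hK, FF.deg_single_ac hK, hd]; omega) ?_ (by omega)
  have hle : L (D - Finsupp.single R₁ 1 - Finsupp.single R₂ 1) ≤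
      L (D - (Finsupp.single i 1 + Finsupp.single j 1 + Finsupp.single R₁ 1 + Finsupp.single R₂ 1)) := fun f hf =>
    mem_L_of_forall (hVi.symm ▸ hf : f ∈ L (D - (Finsupp.single i 1 + Finsupp.single R₁ 1) - Finsupp.single R₂ 1))
      (hVj.symm ▸ hf : f ∈ L (D - (Finsupp.single j 1 + Finsupp.single R₁ 1) - Finsupp.single R₂ 1)) fun Q => by
      rcases eq_or_ne Q i with rfl | hQ
      · left
        simp only [Finsupp.sub_apply, Finsupp.add_apply, Finsupp.single_eq_of_ne hij]
        ring
      · right
        simp only [Finsupp.sub_apply, Finsupp.add_apply, Finsupp.single_eq_of_ne hQ]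
        ring
  haveI := FF.finite_L hK (D - (Finsupp.single i 1 + Finsupp.single j 1 + Finsupp.single R₁ 1 + Finsupp.single R₂ 1))
  have h6 := Submodule.finrank_mono hle
  change ell _ ≤ ell _ at h6
  have := hva R₁ R₂
  omega

/-- Clifford index one gives a `g¹₃` or a quintic. -/
theorem g13_or_quintic {D : Divisor k K} (h0 : 2 ≤ ell D) (h1 : 2 ≤ ell (C - D))
    (hd : D.deg = 2 * (ell D : ℤ) - 1) : HasG13 k K ∨ HasQuintic k K := by
  obtain ⟨hC1, hC2⟩ := FF.canonical_deg hK hC
  have hrr := FF.riemann_roch hK hC D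
  by_cases h : 2 * ell D ≤ genus k K
  · exact core hK hC hmin (ell D - 1) D (by omega) (by omega) (by omega) (by omega)
  · exact core hK hC hmin (ell (C - D) - 1) (C - D) (by omega) (by rw [FF.deg_sub]; omega) (by omega) (by omega)

end Groth.Agent.CliffOneLib
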