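import Groth.Agent.CurveFF.VeryAmple
import Groth.Agent.CurveFF.Sections
import Groth.Agent.CurveFF.Point2
import Groth.Agent.CurveFF.PointIdeal
import Groth.Agent.FF.AlgClosed
import Groth.Agent.RelVALib.Curve

/-!
# A very ample module embeds the curve in the projective space of its sections
-/

set_option autoImplicit false
set_option backward.isDefEq.respectTransparency false
set_option backward.isDefEq.respectTransparency.types false
set_option linter.style.haveILetI false
set_option maxHeartbeats 1000000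

universe u

open CategoryTheory CategoryTheory.Limits AlgebraicGeometry TopologicalSpace Opposite
open Groth.Agent.PullbackMod Groth.Agent.DCohLib Groth.Agent.ParaFLib Groth.Agent.AmpleLib Groth.Agent.RelVALib
open scoped WithZero

noncomputable section

namespace Groth.Agent.CliffOneLib

open Groth.Agent.CurveFF Groth.Agent.CurveFF.VeryAmple

attribute [local instance] Curv2.stalkAlgebra
attribute [local instance high] FunFld.Place.algRes

variable {k : Type u} [Field k] {X : Scheme.{u}} [X.Over (Spec (CommRingCat.of k))]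
  [IsProper (X ↘ Spec (CommRingCat.of k))] [IsIntegral X] [VBLib.IsRegCurve X]
  (hdim : topologicalKrullDim X = 1)
include hdim

/-- Separating sections give an embedding in the projective space of the sections. -/
theorem exists_embedding_dim [IsAlgClosed k] {L : X.Modules} (hL : PicF.IsInvertible L)
    (hg : Curv2.IsGloballyGenerated L) (n : ℕ) (hn : Module.finrank k (Coh.HH X L 0) = n + 1)
    (hsep : ∀ (x y : X), IsClosed ({x} : Set X) → IsClosed ({y} : Set X) → ∃ σ : Γ(L, ⊤),
      L.presheaf.germ ⊤ x trivial σ ∈ IsLocalRing.maximalIdeal (X.presheaf.stalk x) •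
        (⊤ : Submodule (X.presheaf.stalk x) (L.presheaf.stalk x)) ∧
      (y ≠ x → L.presheaf.germ ⊤ y trivial σ ∉ IsLocalRing.maximalIdeal (X.presheaf.stalk y) •
        (⊤ : Submodule (X.presheaf.stalk y) (L.presheaf.stalk y))) ∧
      (y = x → L.presheaf.germ ⊤ x trivial σ ∉ IsLocalRing.maximalIdeal (X.presheaf.stalk x) ^ 2 •
        (⊤ : Submodule (X.presheaf.stalk x) (L.presheaf.stalk x)))) :
    ∃ (i : X ⟶ CohB1.ProjSpace n k), IsClosedImmersion i ∧
      i ≫ CohB1.ProjSpace.toSpec n k = X ↘ Spec (CommRingCat.of k) ∧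
      Nonempty ((Scheme.Modules.pullback i).obj (Twist.twistProjSpace n k 1) ≅ L) := by
  classical
  set pX := X ↘ Spec (CommRingCat.of k) with hpX
  haveI := EulerIneqLib.isNoetherian_proper (X := X) k
  haveI := EulerIneqLib.finite_HH (k := k) (CurveLib.isCoh_of_isInvertible hL) 0
  let b := Module.finBasisOfFinrankEq k (Coh.HH X L 0) hn
  let s : Fin (n + 1) → (Coh.structureModule X ⟶ L) := fun a => secHom L (CurveLib.secOf L (b a))
  have hspan : ∀ σ : Γ(L, ⊤), ∃ c : Fin (n + 1) → k, σ = lin pX s c := fun σ => by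
    refine ⟨fun a => b.repr ((CurveLib.secOf L).symm σ) a, ?_⟩
    conv_lhs => rw [← (CurveLib.secOf L).apply_symm_apply σ, ← b.sum_repr ((CurveLib.secOf L).symm σ), map_sum]
    refine Finset.sum_congr rfl fun a _ => ?_
    rw [sec_secHom]
    exact CurveLib.secOf_smul (k := k) L _ _
  have hcov : ∀ x, ∃ a, x ∈ CohB1.genLocus L (s a) := by
    intro x
    obtain ⟨σ, hσ⟩ := exists_nonvanishing hdim hL hg x
    by_contra hno
    push Not at hno
    obtain ⟨c, rfl⟩ := hspan σ
    refine hσ ?_
    rw [lin, map_sum]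
    refine Submodule.sum_mem _ fun a _ => ?_
    rw [germ_smul']
    refine Submodule.smul_mem _ _ ?_
    obtain ⟨g, hg'⟩ := exists_stalk_gen hL x
    obtain ⟨r, hr⟩ := hg'.2 (L.presheaf.germ ⊤ x trivial (sec (s a)))
    change r • g = _ at hr
    rw [← hr, smul_sum_mem hg']
    intro hu
    refine hno a ?_
    rw [mem_genLocus_iff hL, ← hr, bijective_smul_iff hg']
    exact hu
  obtain ⟨F, hFU, hFg, hFt⟩ := GenMorph.exists_ratioFamily hL s hcov
  let φ : k →+* Γ(X, ⊤) := ProjUP.toGlobal pX
  let f := GenMorph.toProj φ F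
  have hf : f ≫ CohB1.ProjSpace.toSpec n k = pX := GenMorph.toProj_toSpec φ F pX rfl
  have hD' : ∀ j P, f P ∈ ClImmLib.D (k := k) j ↔ P ∈ F.U j := fun j P => by
    rw [← GenMorph.preimage_basicOpen φ F j]; rfl
  have hcomb : ∀ (c : Fin (n + 1) → k) (j : Fin (n + 1)) (P : X) (hP : f P ∈ ClImmLib.D (k := k) j),
      ∃ w : X.presheaf.stalk P, (ClImmLib.LF f).presheaf.germ ⊤ P trivial (ClImmLib.comb pX f c) = w • ClImmLib.gen f j P hP ∧
        L.presheaf.germ ⊤ P trivial (lin pX s c) = w • L.presheaf.germ ⊤ P trivial (sec (s j)) := by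
    intro c j P hP
    refine ⟨_, ClImmLib.germ_comb hf c j P hP, (germ_lin pX s c j (F.t j) (hFt j) P ((hD' j P).1 hP)).trans ?_⟩
    rw [map_sum]
    congr 1
    refine Finset.sum_congr rfl fun a _ => ?_
    rw [map_mul]
    congr 1
    · rw [ClImmLib.cst, RingHom.comp_apply, Scheme.Hom.germ_stalkMap_apply]
      show X.presheaf.germ ⊤ P trivial (ProjUP.toGlobal pX (c a)) =
        X.presheaf.germ ⊤ P trivial (f.appTop (ProjUP.toGlobal (CohB1.ProjSpace.toSpec n k) (c a)))
      congr 1
      rw [← hf]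
      rfl
    · rw [ClImmLib.ρ, Scheme.Hom.germ_stalkMap_apply, Scheme.Hom.app_eq_appLE]
      have h := congrArg (X.presheaf.germ (F.U j) P ((hD' j P).1 hP)) (GenMorph.toProj_appLE_ratio φ F j a)
      refine h.symm.trans ?_
      rw [Scheme.Hom.appLE, Scheme.Hom.appLE, ConcreteCategory.comp_apply, ConcreteCategory.comp_apply,
        TopCat.Presheaf.germ_res_apply, TopCat.Presheaf.germ_res_apply]
      rfl
  have hgenj : ∀ j P, P ∈ F.U j →
      Function.Bijective fun r : X.presheaf.stalk P => r • L.presheaf.germ ⊤ P trivial (sec (s j)) :=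
    fun j P h => (mem_genLocus_iff hL).1 ((hFU j).le h)
  haveI : IsClosedImmersion f := by
    refine ClImmLib.isClosedImmersion_of_sep hf (fun P Q hP hQ hPQ => ?_) fun P hP => ?_
    · obtain ⟨σ, h1, h2, -⟩ := hsep P Q hP hQ
      obtain ⟨c, rfl⟩ := hspan σ
      refine ⟨c, Or.inl ⟨?_, fun hv => h2 (Ne.symm hPQ) ?_⟩⟩
      · obtain ⟨j, hj⟩ := ClImmLib.exists_mem_D (f P)
        obtain ⟨w, hw1, hw2⟩ := hcomb c j P hj
        rw [hw2, smul_sum_mem (hgenj j P ((hD' j P).1 hj))] at h1
        rwa [hw1, ClImmLib.vanish, smul_sum_mem (ClImmLib.bijective_gen f j P hj)]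
      · obtain ⟨j, hj⟩ := ClImmLib.exists_mem_D (f Q)
        obtain ⟨w, hw1, hw2⟩ := hcomb c j Q hj
        rw [hw1, ClImmLib.vanish, smul_sum_mem (ClImmLib.bijective_gen f j Q hj)] at hv
        rwa [hw2, smul_sum_mem (hgenj j Q ((hD' j Q).1 hj))]
    · obtain ⟨σ, h1, -, h3⟩ := hsep P P hP hP
      obtain ⟨c, rfl⟩ := hspan σ
      obtain ⟨j, hj⟩ := ClImmLib.exists_mem_D (f P)
      obtain ⟨w, hw1, hw2⟩ := hcomb c j P hj
      rw [hw2, smul_sum_mem (hgenj j P ((hD' j P).1 hj))] at h1
      have hw2' := h3 rfl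
      rw [hw2, smul_sum_mem (hgenj j P ((hD' j P).1 hj))] at hw2'
      haveI := CurveFF.isDVR k hdim hP
      have hspanw : IsLocalRing.maximalIdeal (X.presheaf.stalk P) ≤ Ideal.span {w} := by
        obtain ⟨ϖ, hϖ⟩ := IsDiscreteValuationRing.exists_irreducible (X.presheaf.stalk P)
        rw [hϖ.maximalIdeal_eq] at h1 ⊢
        obtain ⟨b, rfl⟩ := Ideal.mem_span_singleton.1 h1
        have hb : IsUnit b := by
          by_contra hb
          refine hw2' ?_
          rw [pow_two, hϖ.maximalIdeal_eq]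
          exact Ideal.mul_mem_mul (Ideal.mem_span_singleton_self ϖ)
            (by rw [← hϖ.maximalIdeal_eq]; exact hb)
        rw [Ideal.span_singleton_mul_right_unit hb]
      refine le_trans (Submodule.smul_le.2 fun r hr v _ => ?_) le_sup_left
      obtain ⟨b, rfl⟩ := Ideal.mem_span_singleton.1 (hspanw hr)
      obtain ⟨q, rfl⟩ := (ClImmLib.bijective_gen f j P hj).2 v
      rw [smul_smul, mul_assoc, mul_comm, ← smul_smul, ← hw1]
      refine Submodule.smul_mem _ _ (Submodule.subset_span ⟨c, rfl, ?_⟩)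
      rw [hw1, ClImmLib.vanish, smul_sum_mem (ClImmLib.bijective_gen f j P hj)]
      exact h1
  obtain ⟨θ⟩ := GenMorph.nonempty_iso_pullback_twistOne φ F s
    (fun i => AmpleEmb.gen_resT_of_mem hL _ (hFU i).symm) hFt
  exact ⟨f, inferInstance, hf, ⟨θ.symm⟩⟩

end Groth.Agent.CliffOneLib
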