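import Groth.Agent.CliffOneLib.Core
import Groth.Agent.CliffOneLib.Embed
import Groth.Agent.CurveFF.Pic
import Groth.Agent.CurveFF.Duality
import Groth.Agent.CurveFF.LinSer

/-!
# Curves of Clifford index one
-/

set_option autoImplicit false
set_option backward.isDefEq.respectTransparency false
set_option backward.isDefEq.respectTransparency.types false
set_option linter.style.haveILetI false
set_option maxHeartbeats 1000000

universe u

open CategoryTheory CategoryTheory.Limits AlgebraicGeometry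

noncomputable section

namespace Groth.Agent.CliffOneLib

attribute [local instance] Curv2.stalkAlgebra
attribute [local instance high] FunFld.Place.algRes

variable {k : Type u} [Field k] [IsAlgClosed k] {X : Scheme.{u}} [X.Over (Spec (CommRingCat.of k))]
  [IsProper (X ↘ Spec (CommRingCat.of k))] [IsIntegral X] [VBLib.IsRegCurve X]
  (hdim : topologicalKrullDim X = 1)
include hdim

/-- Clifford index one means trigonal or a smooth plane quintic. -/
theorem trigonal_or_quintic
    (hex : ∃ M : X.Modules, PicF.IsInvertible M ∧ 2 ≤ Module.finrank k (Coh.HH X M 0) ∧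
      2 ≤ Module.finrank k (Coh.HH X M 1) ∧ Curv2.deg k X M 1 = 2 * (Module.finrank k (Coh.HH X M 0) : ℤ) - 1)
    (hmin : ∀ M : X.Modules, PicF.IsInvertible M → 2 ≤ Module.finrank k (Coh.HH X M 0) →
      2 ≤ Module.finrank k (Coh.HH X M 1) → 2 * (Module.finrank k (Coh.HH X M 0) : ℤ) - 1 ≤ Curv2.deg k X M 1) :
    (∃ (L : X.Modules) (s : Fin 2 → LinSer.Sect X L), LinSer.IsLinSer k X L 3 1 s) ∨
      (Curv2.genus k X = 6 ∧ ∃ i : X ⟶ CohB1.ProjSpace 2 k, IsClosedImmersion i ∧
        i ≫ CohB1.ProjSpace.toSpec 2 k = X ↘ Spec (CommRingCat.of k)) := by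
  have hK := CurveFF.isFF (X := X) k hdim
  have h0 := CurveFF.h0_eq_one (X := X) k hdim
  obtain ⟨C, hC⟩ := FF.exists_canonical hK
  have htr : ∀ {L : X.Modules} (hL : PicF.IsInvertible L) {e : L.presheaf.stalk (genericPoint X)}
      (he : CurveFF.IsBase L e) {D : FunFld.Divisor k X.functionField} (hD : CurveFF.IsDiv k hdim L e D),
      Module.finrank k (Coh.HH X L 0) = FunFld.ell D ∧ Module.finrank k (Coh.HH X L 1) = FunFld.ell (C - D) ∧
        Curv2.deg k X L 1 = D.deg := fun {L} hL {e} he {D} hD =>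
    ⟨CurveFF.finrank_H0_eq_ell hdim hL he hD, CurveFF.finrank_H1_eq hdim h0 hL he hD hC,
      (CurveFF.genus_and_deg hdim h0 hL he hD).2⟩
  have hmin' : ∀ D : FunFld.Divisor k X.functionField, 2 ≤ FunFld.ell D → 2 ≤ FunFld.ell (C - D) →
      2 * (FunFld.ell D : ℤ) - 1 ≤ D.deg := fun D h1 h2 => by
    obtain ⟨L, e, hL, he, hD⟩ := CurveFF.exists_module hdim h0 D
    obtain ⟨e0, e1, ed⟩ := htr hL he hD
    have := hmin L hL (e0 ▸ h1) (e1 ▸ h2)
    rwa [e0, ed] at this
  obtain ⟨M, hM, hM0, hM1, hMd⟩ := hex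
  obtain ⟨e, he⟩ := CurveFF.exists_base hM
  obtain ⟨D, hD⟩ := CurveFF.exists_isDiv hdim h0 hM he
  obtain ⟨e0, e1, ed⟩ := htr hM he hD
  rw [e0] at hM0 hMd
  rw [e1] at hM1
  rw [ed] at hMd
  rcases g13_or_quintic hK hC hmin' hM0 hM1 hMd with ⟨E, hE, hEl⟩ | ⟨hg, E, hE, hEl, hva⟩
  · left
    obtain ⟨N, eN, hN, heN, hDN⟩ := CurveFF.exists_module hdim h0 E
    obtain ⟨n0, -, nd⟩ := htr hN heN hDN
    obtain ⟨s, hs⟩ := CurveFF.exists_linIndep (k := k) (L := N) (n := 2) (n0 ▸ hEl)
    exact ⟨N, s, hN, by rw [nd, hE]; rfl, hs⟩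
  · right
    refine ⟨(CurveFF.genus_eq (k := k) hdim h0).trans hg, ?_⟩
    obtain ⟨N, eN, hN, heN, hDN⟩ := CurveFF.exists_module hdim h0 E
    obtain ⟨n0, -, -⟩ := htr hN heN hDN
    have hdrop : ∀ P Q : FunFld.Place k X.functionField,
        FunFld.ell (E - Finsupp.single P 1) + 1 = FunFld.ell E ∧
          FunFld.ell (E - Finsupp.single P 1 - Finsupp.single Q 1) < FunFld.ell (E - Finsupp.single P 1) :=
      fun P Q => by
        have := hva P Q
        have := CurveFF.EmbedExist.ell_le_succ hK E P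
        have := CurveFF.EmbedExist.ell_le_succ hK (E - Finsupp.single P 1) Q
        omega
    obtain ⟨i, hi, hi', -⟩ := exists_embedding_dim (k := k) hdim hN
      ((CurveFF.VeryAmple.globallyGenerated_iff hdim hN heN hDN).2 fun P hP => (hdrop _ (CurveFF.placeOf k hdim P hP)).1)
      2 (by omega) fun x y hx hy => CurveFF.VeryAmple.exists_sep hdim hN heN hDN hx hy (hdrop _ _).2
    exact ⟨i, hi, hi'⟩

end Groth.Agent.CliffOneLib
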