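import Groth.Agent.CliffOneLib.Stability
import Groth.Agent.FF.AlgClosed
import Mathlib.LinearAlgebra.Matrix.BilinearForm
import Mathlib.LinearAlgebra.QuadraticForm.Basic

/-!
# Pencils on curves of genus nine
-/

set_option autoImplicit false
set_option backward.isDefEq.respectTransparency false
set_option backward.isDefEq.respectTransparency.types false
set_option linter.style.haveILetI false
set_option maxHeartbeats 1000000

universe u v

open CategoryTheory CategoryTheory.Limits AlgebraicGeometry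

noncomputable section

namespace Groth.Agent.CliffOneLib

section FF

open FunFld
open scoped WithZero IntermediateField

variable {k : Type u} {K : Type v} [Field k] [IsAlgClosed k] [Field K] [Algebra k K] (hK : IsFunctionField k K)
include hK

/-- The genus of a curve embedded by a net. -/
theorem two_genus_of_net {D : Divisor k K} (he : ell D = 3)
    (h : ∀ P Q, ell (D - Finsupp.single P 1 - Finsupp.single Q 1) + 2 = ell D) :
    2 * (genus k K : ℤ) = (D.deg - 1) * (D.deg - 2) := by
  classical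
  have hb : ∀ P, ell (D - Finsupp.single P 1) + 1 = ell D := fun P => by
    have := h P P
    have := CurveFF.EmbedExist.ell_le_succ hK D P
    have := CurveFF.EmbedExist.ell_le_succ hK (D - Finsupp.single P 1) P
    omega
  haveI := FF.infinite_places hK
  obtain ⟨P⟩ := (inferInstance : Nonempty (Place k K))
  obtain ⟨x, y, hx0, h0, hdeg, hn⟩ := CurveFF.EmbedExist.exists_net hK he fun P => by have := hb P; omega
  have hall : ∀ P, IsNonsingularAt ![(1 : K), x, y] P := fun P => (hn P).2 fun Q => by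
    have := h P Q
    omega
  have hxy : IntermediateField.adjoin k ({x, y} : Set K) = ⊤ := by
    have key : ∀ z : K, P.1 z ≤ 1 → z ∈ IntermediateField.adjoin k ({x, y} : Set K) := fun z hz => by
      obtain ⟨j, hj0, -, u, hu, w, hw, hw1, hez⟩ := hall P z hz
      have hgen : ∀ i, (![(1 : K), x, y] : Fin 3 → K) i ∈ IntermediateField.adjoin k ({x, y} : Set K) := fun i => by
        fin_cases i
        · exact one_mem _
        · exact IntermediateField.subset_adjoin k _ (Or.inl rfl)
        · exact IntermediateField.subset_adjoin k _ (Or.inr rfl)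
      have hle : ∀ r ∈ Algebra.adjoin k (Set.range fun i => (![(1 : K), x, y] : Fin 3 → K) i / ![(1 : K), x, y] j),
          r ∈ IntermediateField.adjoin k ({x, y} : Set K) := fun r hr =>
        (IntermediateField.adjoin_le_iff.2 (by rintro _ ⟨i, rfl⟩; exact div_mem (hgen i) (hgen j)))
          (IntermediateField.algebra_adjoin_le_adjoin k _ hr)
      have hw0 : w ≠ 0 := fun h => by rw [h, map_zero] at hw1; exact zero_ne_one hw1
      rw [eq_div_iff hw0 |>.2 hez]
      exact div_mem (hle u hu) (hle w hw)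
    refine eq_top_iff.2 fun z _ => ?_
    rcases le_total (P.1 z) 1 with hz | hz
    · exact key z hz
    · have := inv_mem (key z⁻¹ (by rw [map_inv₀]; exact inv_le_one_of_one_le₀ hz))
      rwa [inv_inv] at this
  have hgen := (FF.genus_plane x y hK hxy).2.2 hall
  rw [hdeg] at hgen
  exact hgen

/-- A quadratic relation among four sections diagonalises. -/
theorem exists_mul_eq [CharZero k] {D : Divisor k K} (hl : ell D = 4) (h : ell (D + D) < 10) :
    ∃ a b c d : K, a ∈ L D ∧ b ∈ L D ∧ c ∈ L D ∧ d ∈ L D ∧ b ≠ 0 ∧ c ≠ 0 ∧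
      LinearIndependent k ![a, c] ∧ LinearIndependent k ![a, d] ∧ a * b = c * d := by
  classical
  haveI := FF.finite_L hK D
  haveI := FF.finite_L hK (D + D)
  let x := Module.finBasisOfFinrankEq k (L D) hl
  let P := {p : Fin 4 × Fin 4 // p.1 ≤ p.2}
  let f : P → L (D + D) := fun p => ⟨(x p.1.1 : K) * x p.1.2, FF.mul_mem_L (x p.1.1).2 (x p.1.2).2⟩
  have hdep : ¬ LinearIndependent k f := fun hi => by
    have h1 := hi.fintype_card_le_finrank
    rw [show Fintype.card P = 10 by decide] at h1
    change 10 ≤ ell _ at h1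
    omega
  obtain ⟨g, hg, p₀, hp₀⟩ := Fintype.not_linearIndependent_iff.1 hdep
  let M₀ : Fin 4 → Fin 4 → k := fun i j => if h : i ≤ j then g ⟨(i, j), h⟩ else 0
  have hM₀ : ∑ i, ∑ j, algebraMap k K (M₀ i j) * ((x i : K) * x j) = 0 := by
    have h1 := congrArg (fun t : L (D + D) => (t : K)) hg
    simp only [Submodule.coe_sum, SetLike.val_smul, ZeroMemClass.coe_zero, Algebra.smul_def, f] at h1
    rw [← Fintype.sum_prod_type', ← h1]
    symm
    refine (Finset.sum_congr rfl fun p _ => by rw [show g p = M₀ p.1.1 p.1.2 from (by simp only [M₀]; rw [dif_pos p.2])]).trans ?_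
    rw [← Finset.sum_subtype (Finset.univ.filter fun p : Fin 4 × Fin 4 => p.1 ≤ p.2) (by simp)
      (fun p => algebraMap k K (M₀ p.1 p.2) * ((x p.1 : K) * x p.2))]
    refine Finset.sum_subset (Finset.subset_univ _) fun p _ hp => ?_
    rw [show M₀ p.1 p.2 = 0 from dif_neg (by simpa using hp), map_zero, zero_mul]
  let M : Matrix (Fin 4) (Fin 4) k := fun i j => M₀ i j + M₀ j i
  have hM : ∑ i, ∑ j, algebraMap k K (M i j) * ((x i : K) * x j) = 0 := by
    simp only [M, map_add, add_mul, Finset.sum_add_distrib, hM₀, zero_add]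
    rw [Finset.sum_comm, ← hM₀]
    exact Finset.sum_congr rfl fun i _ => Finset.sum_congr rfl fun j _ => by rw [mul_comm (x j : K)]
  have hMne : M p₀.1.1 p₀.1.2 ≠ 0 := by
    obtain ⟨⟨i, j⟩, hij⟩ := p₀
    show M₀ i j + M₀ j i ≠ 0
    rcases eq_or_lt_of_le hij with e | e
    · obtain rfl : i = j := e
      rw [show M₀ i i = g ⟨(i, i), hij⟩ from dif_pos hij, ← two_mul]
      exact mul_ne_zero two_ne_zero hp₀
    · rw [show M₀ i j = g ⟨(i, j), hij⟩ from dif_pos hij, show M₀ j i = 0 from dif_neg e.not_ge, add_zero]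
      exact hp₀
  let β := Matrix.toBilin' M
  have hβe : ∀ i j, β (Pi.single i 1) (Pi.single j 1) = M i j := fun i j => Matrix.toBilin'_single M i j
  have hsym : LinearMap.IsSymm β := by
    refine ⟨fun u w => ?_⟩
    simp only [β, Matrix.toBilin'_apply, RingHom.id_apply]
    rw [Finset.sum_comm]
    exact Finset.sum_congr rfl fun i _ => Finset.sum_congr rfl fun j _ => by simp only [M]; ring
  haveI : Invertible (2 : k) := invertibleOfNonzero two_ne_zero
  obtain ⟨v₀, hv₀⟩ := LinearMap.BilinForm.exists_orthogonal_basis hsym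
  let v := v₀.reindex (finCongr (Module.finrank_fin_fun k))
  have hv : ∀ l m, l ≠ m → β (v l) (v m) = 0 := fun l m hlm => by
    simp only [v, Module.Basis.reindex_apply]
    exact hv₀ (fun e => hlm ((finCongr _).symm.injective e))
  let R : Fin 4 → Fin 4 → k := fun i l => v.repr (Pi.single i 1) l
  let d : Fin 4 → k := fun l => β (v l) (v l)
  have hMd : ∀ i j, M i j = ∑ l, R i l * R j l * d l := fun i j => by
    rw [← hβe i j]
    conv_lhs => rw [← v.sum_repr (Pi.single i 1), ← v.sum_repr (Pi.single j 1)]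
    simp only [map_sum, map_smul, LinearMap.sum_apply, LinearMap.smul_apply, smul_eq_mul]
    refine Finset.sum_congr rfl fun l _ => ?_
    rw [Finset.sum_eq_single l (fun m _ hm => by simp [hv _ _ hm, hv _ _ (Ne.symm hm)])
      (fun h => absurd (Finset.mem_univ l) h)]
    simp only [R, d]
    ring
  let y : Fin 4 → K := fun l => ∑ i, algebraMap k K (R i l) * (x i : K)
  have hyL : ∀ l, y l ∈ L D := fun l => Submodule.sum_mem _ fun i _ => by
    rw [← Algebra.smul_def]; exact Submodule.smul_mem _ _ (x i).2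
  have hyi : LinearIndependent k y := Fintype.linearIndependent_iff.2 fun c hc l => by
    have hx : LinearIndependent k fun i => (x i : K) := x.linearIndependent.map' (L D).subtype (Submodule.ker_subtype _)
    have h2 : ∀ i, ∑ m, c m * R i m = 0 := Fintype.linearIndependent_iff.1 hx _ (by
      rw [← hc]
      simp only [y, Algebra.smul_def, map_sum, map_mul, Finset.sum_mul, Finset.mul_sum]
      rw [Finset.sum_comm]
      exact Finset.sum_congr rfl fun m _ => Finset.sum_congr rfl fun i _ => by ring)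
    have h3 : ∑ m, c m • v.coord m = 0 := LinearMap.pi_ext' fun i => LinearMap.ext_ring (by
      simpa [R] using h2 i)
    have h4 := LinearMap.congr_fun h3 (v l)
    simpa [Finsupp.single_apply] using h4
  have hyrel : ∑ l, algebraMap k K (d l) * (y l * y l) = 0 := by
    rw [← hM]
    simp only [hMd, y, map_sum, map_mul, Finset.sum_mul, Finset.mul_sum]
    rw [Finset.sum_comm]
    refine Finset.sum_congr rfl fun i _ => ?_
    rw [Finset.sum_comm]
    exact Finset.sum_congr rfl fun j _ => Finset.sum_congr rfl fun l _ => by ring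
  obtain ⟨l, hl'⟩ : ∃ l, d l ≠ 0 := by
    by_contra hall
    push Not at hall
    exact hMne (by rw [hMd]; simp [hall])
  obtain ⟨m, hml, hm⟩ : ∃ m, m ≠ l ∧ d m ≠ 0 := by
    by_contra hall
    push Not at hall
    rw [Finset.sum_eq_single l (fun m _ hm => by rw [hall m hm, map_zero, zero_mul])
      (fun h => absurd (Finset.mem_univ l) h)] at hyrel
    simp [hl', hyi.ne_zero l] at hyrel
  let π₁ : Equiv.Perm (Fin 4) := Equiv.swap 0 l
  let π : Equiv.Perm (Fin 4) := (Equiv.swap 2 (π₁.symm m)).trans π₁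
  have hπ2 : π 2 = m := by simp [π]
  have hπ0 : π 0 = l := by
    have h1 : π₁.symm m ≠ 0 := fun e => hml (by
      have := congrArg π₁ e
      simpa [π₁] using this)
    show π₁ (Equiv.swap 2 (π₁.symm m) 0) = l
    rw [Equiv.swap_apply_of_ne_of_ne (by decide) (Ne.symm h1)]
    simp [π₁]
  have hs : ∀ a : k, ∃ s, s * s = a := fun a => by
    obtain ⟨s, hs⟩ := IsAlgClosed.exists_pow_nat_eq a (n := 2) two_pos
    exact ⟨s, by rw [← hs, sq]⟩
  choose s hs using fun j => hs (d (π j))
  obtain ⟨ι, hι⟩ : ∃ ι : k, ι * ι = -1 := by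
    obtain ⟨s, hs⟩ := IsAlgClosed.exists_pow_nat_eq (-1 : k) (n := 2) two_pos
    exact ⟨s, by rw [← hs, sq]⟩
  let Y : Fin 4 → K := fun j => y (π j)
  have hYi : LinearIndependent k Y := hyi.comp π π.injective
  have hrel : (algebraMap k K (s 0) * Y 0) ^ 2 + (algebraMap k K (s 1) * Y 1) ^ 2 +
      (algebraMap k K (s 2) * Y 2) ^ 2 + (algebraMap k K (s 3) * Y 3) ^ 2 = 0 := by
    rw [← Equiv.sum_comp π, Fin.sum_univ_four, ← hs 0, ← hs 1, ← hs 2, ← hs 3, map_mul, map_mul, map_mul, map_mul] at hyrel
    rw [← hyrel]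
    simp only [Y]
    ring
  have hs0 : s 0 ≠ 0 := fun e => hl' (by rw [← hπ0, ← hs 0, e, mul_zero])
  have hs2 : s 2 ≠ 0 := fun e => hm (by rw [← hπ2, ← hs 2, e, mul_zero])
  have hι' : algebraMap k K ι * algebraMap k K ι = -1 := by rw [← map_mul, hι, map_neg, map_one]
  have hι0 : ι ≠ 0 := fun e => by simp [e] at hι
  have mem : ∀ (a : k) (j : Fin 4), algebraMap k K a * Y j ∈ L D := fun a j => by
    rw [← Algebra.smul_def]; exact Submodule.smul_mem _ _ (hyL _)
  have key : ∀ t : Fin 4 → k, ∑ j, algebraMap k K (t j) * Y j = 0 → ∀ j, t j = 0 :=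
    fun t ht => Fintype.linearIndependent_iff.1 hYi t (by simpa [Algebra.smul_def] using ht)
  refine ⟨algebraMap k K (s 0) * Y 0 + algebraMap k K (ι * s 1) * Y 1, algebraMap k K (s 0) * Y 0 - algebraMap k K (ι * s 1) * Y 1,
    algebraMap k K (ι * s 2) * Y 2 + algebraMap k K (s 3) * Y 3, algebraMap k K (ι * s 2) * Y 2 - algebraMap k K (s 3) * Y 3,
    add_mem (mem _ _) (mem _ _), sub_mem (mem _ _) (mem _ _), add_mem (mem _ _) (mem _ _), sub_mem (mem _ _) (mem _ _),
    fun e => ?_, fun e => ?_, LinearIndependent.pair_iff.2 fun p q e => ?_, LinearIndependent.pair_iff.2 fun p q e => ?_, ?_⟩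
  · have := key ![s 0, -(ι * s 1), 0, 0] (by rw [Fin.sum_univ_four]; simpa [← sub_eq_add_neg] using e) 0
    exact hs0 (by simpa using this)
  · have := key ![0, 0, ι * s 2, s 3] (by rw [Fin.sum_univ_four]; simpa using e) 2
    exact mul_ne_zero hι0 hs2 (by simpa using this)
  · have := key ![p * s 0, p * (ι * s 1), q * (ι * s 2), q * s 3] (by
      rw [Fin.sum_univ_four, ← e, Algebra.smul_def, Algebra.smul_def]
      simp only [Matrix.cons_val, map_mul]
      ring)
    exact ⟨(mul_eq_zero.1 (by simpa using this 0)).resolve_right hs0,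
      (mul_eq_zero.1 (by simpa using this 2)).resolve_right (mul_ne_zero hι0 hs2)⟩
  · have := key ![p * s 0, p * (ι * s 1), q * (ι * s 2), -(q * s 3)] (by
      rw [Fin.sum_univ_four, ← e, Algebra.smul_def, Algebra.smul_def]
      simp only [Matrix.cons_val, map_mul, map_neg]
      ring)
    exact ⟨(mul_eq_zero.1 (by simpa using this 0)).resolve_right hs0,
      (mul_eq_zero.1 (by simpa using this 2)).resolve_right (mul_ne_zero hι0 hs2)⟩
  · simp only [map_mul]
    linear_combination hrel - ((algebraMap k K (s 1) * Y 1) ^ 2 + (algebraMap k K (s 2) * Y 2) ^ 2) * hι'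

/-- A relation `ab = cd` gives two pencils adding up to `D`. -/
theorem exists_split {D : Divisor k K} {a b c d : K} (ha : a ∈ L D) (hb : b ∈ L D) (hc : c ∈ L D) (hd : d ∈ L D)
    (hb0 : b ≠ 0) (hc0 : c ≠ 0) (hac : LinearIndependent k ![a, c]) (had : LinearIndependent k ![a, d])
    (h : a * b = c * d) : ∃ G : Divisor k K, 2 ≤ ell G ∧ 2 ≤ ell (D - G) := by
  classical
  have ha0 : a ≠ 0 := hac.ne_zero 0
  have hd0 : d ≠ 0 := had.ne_zero 1
  set Da := D + div k a
  set Db := D + div k b
  set Dc := D + div k c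
  set Dd := D + div k d
  have hA : 0 ≤ Da := FF.le_add_div_of_mem_L hK ha0 ha
  have hB : 0 ≤ Db := FF.le_add_div_of_mem_L hK hb0 hb
  have hC : 0 ≤ Dc := FF.le_add_div_of_mem_L hK hc0 hc
  have hD : 0 ≤ Dd := FF.le_add_div_of_mem_L hK hd0 hd
  have hsum : div k a + div k b = div k c + div k d := by
    rw [← FF.div_mul hK ha0 hb0, h, FF.div_mul hK hc0 hd0]
  let G := Da ⊓ Dc
  refine ⟨G, ?_, ?_⟩
  · have hH : 0 ≤ G + div k (b / c) := fun P => by
      rw [div_eq_mul_inv, FF.div_mul hK hb0 (inv_ne_zero hc0), FF.div_inv hK]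
      have e := DFunLike.congr_fun hsum P
      have := hA P; have := hB P; have := hC P; have := hD P
      simp only [G, Da, Db, Dc, Dd, Finsupp.coe_zero, Pi.zero_apply, Finsupp.add_apply, Finsupp.neg_apply, Finsupp.inf_apply] at *
      rcases le_total (D P + div k a P) (D P + div k c P) with hl | hl
      · rw [min_eq_left hl]; omega
      · rw [min_eq_right hl]; omega
    have hG : 0 ≤ G := le_inf hA hC
    haveI := FF.finite_L hK G
    have hbc : b / c ∈ L G := (FF.mem_L_iff_ord (div_ne_zero hb0 hc0)).2 fun P => by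
      have := hH P
      simp only [Finsupp.coe_zero, Pi.zero_apply, Finsupp.add_apply, FF.div_apply hK] at this
      omega
    have hli : LinearIndependent k ![(1 : K), b / c] := (LinearIndependent.pair_iff' one_ne_zero).2 fun t e => by
      have hb' : b = algebraMap k K t * c := by
        rw [← mul_one (algebraMap k K t), ← Algebra.smul_def, e, div_mul_cancel₀ _ hc0]
      have hd' : d = algebraMap k K t * a := mul_left_cancel₀ hc0 (by rw [← h, hb']; ring)
      exact one_ne_zero ((LinearIndependent.pair_iff.1 had (-t) 1 (by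
        rw [one_smul, Algebra.smul_def, map_neg, hd']; ring)).2)
    have h2 := Submodule.finrank_mono (show Submodule.span k (Set.range ![(1 : K), b / c]) ≤ L G from
      Submodule.span_le.2 (by rintro _ ⟨i, rfl⟩; fin_cases i <;> [exact FF.one_mem_L hG; exact hbc]))
    rw [finrank_span_eq_card hli, Fintype.card_fin] at h2
    exact h2
  · haveI := FF.finite_L hK (D - G)
    have hmem : ∀ t : K, t ≠ 0 → G ≤ D + div k t → t ∈ L (D - G) := fun t ht hle =>
      (FF.mem_L_iff_ord ht).2 fun P => by
        have := hle P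
        simp only [Finsupp.add_apply, FF.div_apply hK, Finsupp.sub_apply] at *
        omega
    have h2 := Submodule.finrank_mono (show Submodule.span k (Set.range ![a, c]) ≤ L (D - G) from
      Submodule.span_le.2 (by
        rintro _ ⟨i, rfl⟩
        fin_cases i <;> [exact hmem a ha0 inf_le_left; exact hmem c hc0 inf_le_right]))
    rw [finrank_span_eq_card hac, Fintype.card_fin] at h2
    exact h2

variable {C : Divisor k K} (hC : IsCanonical k K C) (hg : genus k K = 9)
include hC hg

/-- Genus nine, Clifford index two: a pencil of degree four. -/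
theorem exists_g14 [CharZero k]
    (hmin : ∀ D : Divisor k K, 2 ≤ ell D → 2 ≤ ell (C - D) → 2 * (ell D : ℤ) ≤ D.deg)
    {D : Divisor k K} (h0 : 2 ≤ ell D) (h1 : 2 ≤ ell (C - D)) (hd : D.deg = 2 * (ell D : ℤ)) :
    ∃ E : Divisor k K, E.deg = 4 ∧ 2 ≤ ell E := by
  classical
  obtain ⟨hC1, hC2⟩ := FF.canonical_deg hK hC
  have hlow : ∀ E : Divisor k K, 2 ≤ ell E → E.deg ≤ 4 → E.deg = 4 := fun E hE hE4 => by
    have := FF.riemann_roch hK hC E
    have := hmin E hE (by omega)
    omega
  have hwlog : ∀ D : Divisor k K, 2 ≤ ell D → D.deg = 2 * (ell D : ℤ) → ell D ≤ 4 →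
      ∃ E : Divisor k K, E.deg = 4 ∧ 2 ≤ ell E := fun D h0 hd h4 => by
    have hnet : ∀ D : Divisor k K, ell D = 3 → D.deg = 6 → ∃ E : Divisor k K, E.deg = 4 ∧ 2 ≤ ell E := fun D hl hd => by
      by_contra hno
      have hdrop : ∀ P Q, ell (D - Finsupp.single P 1 - Finsupp.single Q 1) + 2 = ell D := fun P Q => by
        have := CurveFF.EmbedExist.ell_le_succ hK D P
        have := CurveFF.EmbedExist.ell_le_succ hK (D - Finsupp.single P 1) Q
        by_contra hne
        exact hno ⟨D - Finsupp.single P 1 - Finsupp.single Q 1,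
          by rw [FF.deg_sub, FF.deg_sub, FF.deg_single_ac hK, FF.deg_single_ac hK, hd]; rfl, by omega⟩
      have h := two_genus_of_net hK hl hdrop
      rw [hg, hd] at h
      norm_num at h
    rcases (show ell D = 2 ∨ ell D = 3 ∨ ell D = 4 by omega) with e | e | e
    · exact ⟨D, by omega, by omega⟩
    · exact hnet D e (by omega)
    have h8 : D.deg = 8 := by omega
    have hcl := FF.clifford hK (D := D + D) (by rw [FF.deg_add]; omega) (by rw [FF.deg_add]; omega)
    rw [FF.deg_add] at hcl
    obtain ⟨a, b, c, d, ha, hb, hc, hd', hb0, hc0, hac, had, he⟩ := exists_mul_eq hK e (by omega)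
    obtain ⟨G, hG, hDG⟩ := exists_split hK ha hb hc hd' hb0 hc0 hac had he
    by_cases h : G.deg ≤ 4
    · exact ⟨G, hlow G hG h, hG⟩
    · refine ⟨D - G, hlow _ hDG ?_, hDG⟩
      rw [FF.deg_sub]; omega
  have hrr := FF.riemann_roch hK hC D
  by_cases h : ell D ≤ 4
  · exact hwlog D h0 hd h
  · exact hwlog (C - D) h1 (by rw [FF.deg_sub]; omega) (by omega)

/-- Genus nine, Clifford index three: a pencil of degree five. -/
theorem exists_g15 {D : Divisor k K} (h0 : 2 ≤ ell D) (h1 : 2 ≤ ell (C - D))
    (hd : D.deg = 2 * (ell D : ℤ) + 1) : ∃ E : Divisor k K, E.deg = 5 ∧ 2 ≤ ell E := by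
  classical
  obtain ⟨hC1, hC2⟩ := FF.canonical_deg hK hC
  have hwlog : ∀ D : Divisor k K, 2 ≤ ell D → D.deg = 2 * (ell D : ℤ) + 1 → ell D ≤ 3 →
      ∃ E : Divisor k K, E.deg = 5 ∧ 2 ≤ ell E := fun D h0 hd h3 => by
    rcases (show ell D = 2 ∨ ell D = 3 by omega) with e | e
    · exact ⟨D, by omega, by omega⟩
    by_contra hno
    have hdrop : ∀ P Q, ell (D - Finsupp.single P 1 - Finsupp.single Q 1) + 2 = ell D := fun P Q => by
      have := CurveFF.EmbedExist.ell_le_succ hK D P
      have := CurveFF.EmbedExist.ell_le_succ hK (D - Finsupp.single P 1) Q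
      by_contra hne
      exact hno ⟨D - Finsupp.single P 1 - Finsupp.single Q 1,
        by rw [FF.deg_sub, FF.deg_sub, FF.deg_single_ac hK, FF.deg_single_ac hK, hd, e]; rfl, by omega⟩
    have h := two_genus_of_net hK e hdrop
    rw [hg, hd, e] at h
    norm_num at h
  have hrr := FF.riemann_roch hK hC D
  by_cases h : ell D ≤ 3
  · exact hwlog D h0 hd h
  · exact hwlog (C - D) h1 (by rw [FF.deg_sub]; omega) (by omega)

variable (hmin : ∀ D : Divisor k K, 2 ≤ ell D → 2 ≤ ell (C - D) → 2 * (ell D : ℤ) + 1 ≤ D.deg)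
include hmin

theorem ell_le_one_of_deg_le_four {E : Divisor k K} (h : E.deg ≤ 4) : ell E ≤ 1 := by
  obtain ⟨hC1, hC2⟩ := FF.canonical_deg hK hC
  by_contra hlt
  have := FF.riemann_roch hK hC E
  have := hmin E (by omega) (by omega)
  omega

/-- Sums of two pencils of degree five. -/
theorem ell_add_eq {A B : Divisor k K} (hA : A.deg = 5) (hAl : ell A = 2) (hB : B.deg = 5) (hBl : ell B = 2)
    (hne : ell (B - A) = 0) : ell (A + B) = 4 := by
  obtain ⟨hC1, hC2⟩ := FF.canonical_deg hK hC
  have ht := pencil_trick hK (A := A) (B := B) hAl fun P => ell_le_one_of_deg_le_four hK hC hg hmin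
    (by rw [FF.deg_sub, FF.deg_single_ac hK]; omega)
  have hrr := FF.riemann_roch hK hC (A + B)
  rw [FF.deg_add] at hrr
  by_contra h
  have := hmin (A + B) (by omega) (by omega)
  rw [FF.deg_add] at this
  omega

/-- Multiples of a pencil of degree five. -/
theorem ell_multiples {A : Divisor k K} (hA : A.deg = 5) (hAl : ell A = 2) :
    (ell (A + A) = 3 ∨ ell (A + A) = 4) ∧ (ell (A + A + A) = 7 ∨ ell (A + A + A) = 8) ∧
      (ell (A + A) = 3 → ell (A + A + A) = 7) := by
  classical
  obtain ⟨hC1, hC2⟩ := FF.canonical_deg hK hC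
  have ht := pencil_trick hK (A := A) (B := A) hAl fun P => ell_le_one_of_deg_le_four hK hC hg hmin
    (by rw [FF.deg_sub, FF.deg_single_ac hK]; omega)
  rw [sub_self, FF.ell_zero hK] at ht
  have hrr2 := FF.riemann_roch hK hC (A + A)
  rw [FF.deg_add] at hrr2
  have hrr3 := FF.riemann_roch hK hC (A + A + A)
  rw [FF.deg_add, FF.deg_add] at hrr3
  have h2 : ell (A + A) ≤ 4 := by
    by_contra h
    have := hmin (A + A) (by omega) (by omega)
    rw [FF.deg_add] at this
    omega
  have h3 : ell (C - (A + A + A)) ≤ 1 := ell_le_one_of_deg_le_four hK hC hg hmin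
    (by rw [FF.deg_sub, FF.deg_add, FF.deg_add]; omega)
  refine ⟨by omega, by omega, fun h => ?_⟩
  by_contra hne
  obtain ⟨z, hz, hzL⟩ := FF.exists_ne_zero_of_ell_pos (D := C - (A + A + A)) (by omega)
  have hle := FF.ell_mono hK (show A ≤ C - (A + A) + div k z by
    have h := FF.le_add_div_of_mem_L hK hz hzL
    rw [← sub_nonneg, show C - (A + A) + div k z - A = C - (A + A + A) + div k z by abel]
    exact h)
  rw [FF.ell_add_div hK _ hz] at hle
  omega

/-- The difference of a septic net and a pencil is effective. -/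
theorem ell_net_sub {A H : Divisor k K} (hA : A.deg = 5) (hAl : ell A = 2) (hH : H.deg = 7) (hHl : ell H = 3) :
    ell (H - A) = 1 := by
  obtain ⟨hC1, hC2⟩ := FF.canonical_deg hK hC
  have ht := pencil_trick hK (A := A) (B := H) hAl fun P => ell_le_one_of_deg_le_four hK hC hg hmin
    (by rw [FF.deg_sub, FF.deg_single_ac hK]; omega)
  have hrr := FF.riemann_roch hK hC (A + H)
  rw [FF.deg_add] at hrr
  have h1 := ell_le_one_of_deg_le_four hK hC hg hmin (E := H - A) (by rw [FF.deg_sub]; omega)
  by_contra h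
  have := hmin (A + H) (by omega) (by omega)
  rw [FF.deg_add] at this
  omega

end FF

attribute [local instance] Curv2.stalkAlgebra
attribute [local instance high] FunFld.Place.algRes

variable {k : Type u} [Field k] [IsAlgClosed k] {X : Scheme.{u}} [X.Over (Spec (CommRingCat.of k))]
  [IsProper (X ↘ Spec (CommRingCat.of k))] [IsIntegral X] [VBLib.IsRegCurve X]
  (hdim : topologicalKrullDim X = 1) {C : FunFld.Divisor k X.functionField}
  (hC : FunFld.IsCanonical k X.functionField C)
include hdim hC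

/-- The divisor of a module, with its dimensions. -/
theorem exists_div {M : X.Modules} (hM : PicF.IsInvertible M) :
    ∃ (e : M.presheaf.stalk (genericPoint X)) (D : FunFld.Divisor k X.functionField),
      CurveFF.IsBase M e ∧ CurveFF.IsDiv k hdim M e D ∧ Module.finrank k (Coh.HH X M 0) = FunFld.ell D ∧
      Module.finrank k (Coh.HH X M 1) = FunFld.ell (C - D) ∧ Curv2.deg k X M 1 = D.deg := by
  have h0 := CurveFF.h0_eq_one (X := X) k hdim
  obtain ⟨e, he⟩ := CurveFF.exists_base hM
  obtain ⟨D, hD⟩ := CurveFF.exists_isDiv hdim h0 hM he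
  exact ⟨e, D, he, hD, CurveFF.finrank_H0_eq_ell hdim hM he hD, CurveFF.finrank_H1_eq hdim h0 hM he hD hC,
    (CurveFF.genus_and_deg hdim h0 hM he hD).2⟩

/-- Clifford index bounds in divisor form. -/
theorem hmin_div (c : ℤ) (hmin : ∀ M : X.Modules, PicF.IsInvertible M → 2 ≤ Module.finrank k (Coh.HH X M 0) →
      2 ≤ Module.finrank k (Coh.HH X M 1) → 2 * (Module.finrank k (Coh.HH X M 0) : ℤ) + c ≤ Curv2.deg k X M 1)
    (D : FunFld.Divisor k X.functionField) (h1 : 2 ≤ FunFld.ell D) (h2 : 2 ≤ FunFld.ell (C - D)) :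
    2 * (FunFld.ell D : ℤ) + c ≤ D.deg := by
  have h0 := CurveFF.h0_eq_one (X := X) k hdim
  obtain ⟨L, e, hL, he, hD⟩ := CurveFF.exists_module hdim h0 D
  have e0 := CurveFF.finrank_H0_eq_ell hdim hL he hD
  have := hmin L hL (e0 ▸ h1) (CurveFF.finrank_H1_eq hdim h0 hL he hD hC ▸ h2)
  rwa [e0, (CurveFF.genus_and_deg hdim h0 hL he hD).2] at this

omit hC in
/-- A series from a divisor. -/
theorem exists_series {d : ℕ} {E : FunFld.Divisor k X.functionField} (hE : E.deg = d) (hl : 2 ≤ FunFld.ell E) :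
    ∃ (L : X.Modules) (s : Fin (1 + 1) → LinSer.Sect X L), LinSer.IsLinSer k X L d 1 s := by
  have h0 := CurveFF.h0_eq_one (X := X) k hdim
  obtain ⟨N, eN, hN, heN, hDN⟩ := CurveFF.exists_module hdim h0 E
  obtain ⟨s, hs⟩ := CurveFF.exists_linIndep (k := k) (L := N) (n := 1 + 1)
    (by rw [CurveFF.finrank_H0_eq_ell hdim hN heN hDN]; exact hl)
  exact ⟨N, s, hN, by rw [(CurveFF.genus_and_deg hdim h0 hN heN hDN).2, hE], hs⟩

end Groth.Agent.CliffOneLib
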