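import Groth.Agent.CliffOneLib.Curve
import Groth.Agent.CurveFormsLib.Nondeg
import Groth.Agent.CurveFF.Sections

/-!
# Linear stability of projections of canonical curves
-/

set_option autoImplicit false
set_option backward.isDefEq.respectTransparency false
set_option backward.isDefEq.respectTransparency.types false
set_option linter.style.haveILetI false
set_option maxHeartbeats 1000000

universe u v

open CategoryTheory CategoryTheory.Limits AlgebraicGeometry Opposite

noncomputable section

namespace Groth.Agent.CliffOneLib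

section FF

open FunFld

variable {k : Type u} {K : Type v} [Field k] [IsAlgClosed k] [Field K] [Algebra k K] (hK : IsFunctionField k K)
include hK

/-- The base point free pencil trick. -/
theorem pencil_trick {A B : Divisor k K} (hA : ell A = 2) (hbpf : ∀ P, ell (A - Finsupp.single P 1) ≤ 1) :
    2 * ell B ≤ ell (A + B) + ell (B - A) := by
  classical
  obtain ⟨z, hz, hA0, hA0l, -⟩ := CurveFF.exists_effective hK (D := A) (by omega)
  set A0 := A + div k z with hA0d
  rw [hA] at hA0l
  obtain ⟨x, hx, hxc⟩ := CurveFF.exists_nonconstant hK (D := A0) (by omega)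
  have hord : ∀ P : Place k K, 0 < A0 P → x ≠ 0 ∧ P.ord x = -A0 P := fun P hP => by
    refine FF.ord_eq_of_not_mem_L hx fun hxm => ?_
    have h1 : (1 : K) ∈ L (A0 - Finsupp.single P 1) := FF.one_mem_L fun Q => by
      have := hA0 Q
      rcases eq_or_ne Q P with rfl | hQ
      · simp only [Finsupp.coe_zero, Pi.zero_apply, Finsupp.sub_apply, Finsupp.single_eq_same] at *; omega
      · simpa [Finsupp.single_eq_of_ne hQ] using this
    haveI := FF.finite_L hK (A0 - Finsupp.single P 1)
    have h2 : Submodule.span k (Set.range ![(1 : K), x]) ≤ L (A0 - Finsupp.single P 1) := Submodule.span_le.2 (by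
      rintro _ ⟨i, rfl⟩
      fin_cases i
      · exact h1
      · exact hxm)
    have h3 := Submodule.finrank_mono h2
    rw [finrank_span_eq_card ((LinearIndependent.pair_iff' one_ne_zero).2 fun a h =>
      hxc ⟨a, by rw [← h, Algebra.smul_def, mul_one]⟩), Fintype.card_fin] at h3
    change 2 ≤ ell _ at h3
    have h4 := hbpf P
    rw [← FF.ell_add_div hK (A - Finsupp.single P 1) hz,
      show A - Finsupp.single P 1 + div k z = A0 - Finsupp.single P 1 by rw [hA0d]; abel] at h4
    omega
  haveI := FF.finite_L hK B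
  haveI := FF.finite_L hK (A0 + B)
  haveI := FF.finite_L hK (B - A0)
  let φ : L B × L B →ₗ[k] L (A0 + B) :=
    { toFun := fun p => ⟨p.1.1 + x * p.2.1, add_mem (FF.L_mono (le_add_of_nonneg_left hA0) p.1.2) (FF.mul_mem_L hx p.2.2)⟩
      map_add' := fun p q => Subtype.ext (by simp only [Prod.fst_add, Prod.snd_add, Submodule.coe_add]; ring)
      map_smul' := fun c p => Subtype.ext (by
        simp only [Prod.smul_fst, Prod.smul_snd, SetLike.val_smul, RingHom.id_apply, smul_add, mul_smul_comm]) }
  have hker : ∀ p : LinearMap.ker φ, (p.1.2 : K) ∈ L (B - A0) := fun p => by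
    rcases eq_or_ne (p.1.2 : K) 0 with h0 | h0
    · rw [h0]; exact zero_mem _
    have hp : (p.1.1 : K) + x * p.1.2 = 0 := congrArg Subtype.val (LinearMap.mem_ker.1 p.2)
    have hxb : x * p.1.2 ∈ L B := by
      rw [← neg_eq_of_add_eq_zero_right hp]; exact neg_mem p.1.1.2
    refine (FF.mem_L_iff_ord h0).2 fun P => ?_
    have h1 := (FF.mem_L_iff_ord h0).1 p.1.2.2 P
    rw [Finsupp.sub_apply]
    by_cases hP : 0 < A0 P
    · obtain ⟨hx0, ho⟩ := hord P hP
      have h2 := (FF.mem_L_iff_ord (mul_ne_zero hx0 h0)).1 hxb P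
      rw [FF.ord_mul P hx0 h0, ho] at h2
      omega
    · have := hA0 P
      simp only [Finsupp.coe_zero, Pi.zero_apply] at this
      omega
  let ψ : LinearMap.ker φ →ₗ[k] L (B - A0) :=
    { toFun := fun p => ⟨p.1.2.1, hker p⟩
      map_add' := fun p q => Subtype.ext rfl
      map_smul' := fun c p => Subtype.ext rfl }
  have hψ : Function.Injective ψ := fun p q h => by
    have h2 : (p.1.2 : K) = q.1.2 := congrArg (fun t : L (B - A0) => (t : K)) h
    have hp : (p.1.1 : K) + x * p.1.2 = 0 := congrArg Subtype.val (LinearMap.mem_ker.1 p.2)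
    have hq : (q.1.1 : K) + x * q.1.2 = 0 := congrArg Subtype.val (LinearMap.mem_ker.1 q.2)
    refine Subtype.ext (Prod.ext (Subtype.ext ?_) (Subtype.ext h2))
    rw [h2] at hp
    exact add_right_cancel (hp.trans hq.symm)
  have h1 := φ.finrank_range_add_finrank_ker
  rw [Module.finrank_prod] at h1
  have h2 := LinearMap.finrank_le_finrank_of_injective hψ
  have h3 := Submodule.finrank_le (LinearMap.range φ)
  have e1 : ell (A0 + B) = ell (A + B) := by
    rw [show A0 + B = A + B + div k z by rw [hA0d]; abel]; exact FF.ell_add_div hK _ hz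
  have e2 : ell (B - A0) = ell (B - A) := by
    rw [show B - A0 = B - A + div k z⁻¹ by rw [hA0d, FF.div_inv hK]; abel]; exact FF.ell_add_div hK _ (inv_ne_zero hz)
  simp only [ell] at *
  omega

/-- On a trigonal curve without a `g¹₂` the only systems of Clifford index one are the pencils and their residuals. -/
theorem no_large_cliff_one (h12 : ∀ E : Divisor k K, E.deg = 2 → ell E ≤ 1) {A B : Divisor k K} (hA : A.deg = 3)
    (hAl : 2 ≤ ell A) (hB : B.deg = 2 * (ell B : ℤ) - 1) (h3 : 3 ≤ ell B) (hg : 2 * ell B ≤ genus k K) : False := by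
  have hA2 := FF.clifford hK (D := A) (by omega) (by omega)
  have htr := pencil_trick hK (A := A) (B := B) (by omega)
    fun P => h12 _ (by rw [FF.deg_sub, FF.deg_single_ac hK]; omega)
  have hs : ∀ E : Divisor k K, 0 < E.deg → E.deg < 2 * (genus k K : ℤ) - 2 → E.deg + 2 ≤ 2 * (ell E : ℤ) → False :=
    fun E h1 h2 h3 => by
      obtain ⟨F, hF, hFl⟩ := CurveFF.exists_g12_of_clifford_eq hK E.deg.toNat (D := E) (by omega) (by omega) (by omega)
        (by omega)
      have := h12 F hF
      omega
  have h1 : (B - A).deg = 2 * (ell B : ℤ) - 4 := by rw [FF.deg_sub]; omega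
  have h2 : (A + B).deg = 2 * (ell B : ℤ) + 2 := by rw [FF.deg_add]; omega
  by_contra
  by_cases h : (ell B : ℤ) - 1 ≤ ell (B - A)
  · exact hs (B - A) (by omega) (by omega) (by omega)
  · exact hs (A + B) (by omega) (by omega) (by omega)

end FF

attribute [local instance] Curv2.stalkAlgebra
attribute [local instance high] FunFld.Place.algRes

variable {k : Type u} [Field k] [IsAlgClosed k] {X : Scheme.{u}} [X.Over (Spec (CommRingCat.of k))]
  [IsProper (X ↘ Spec (CommRingCat.of k))] [IsIntegral X] [VBLib.IsRegCurve X]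
  (hdim : topologicalKrullDim X = 1)
include hdim

/-- Riemann–Roch in terms of dimensions. -/
theorem h0_sub_h1 {M : X.Modules} : (Module.finrank k (Coh.HH X M 0) : ℤ) - Module.finrank k (Coh.HH X M 1) =
    Curv2.deg k X M 1 + 1 - Curv2.genus k X := by
  haveI := EulerIneqLib.isNoetherian_proper (X := X) k
  have hO := CurveLib.euler_eq_sub (k := k) (M := Coh.structureModule X) hdim.le
  rw [CurveFF.h0_eq_one (X := X) k hdim] at hO
  rw [Curv2.deg, CurveLib.euler_eq_sub hdim.le, hO, Curv2.genus]
  push_cast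
  ring

/-- Special modules have degree at most `2g - 2`. -/
theorem deg_le_of_special {M : X.Modules} (hM : PicF.IsInvertible M) (h1 : 0 < Module.finrank k (Coh.HH X M 1)) :
    Curv2.deg k X M 1 ≤ 2 * (Curv2.genus k X : ℤ) - 2 := by
  by_contra hh
  haveI := CurveFF.subsingleton_H1 (k := k) hdim (CurveFF.h0_eq_one (X := X) k hdim) hM (by omega)
  rw [Module.finrank_zero_of_subsingleton] at h1
  omega

/-- Without a `g¹₂` Clifford's inequality is strict. -/
theorem cliff_one_le (hnh : ¬ ∃ (N : X.Modules) (t : Fin 2 → LinSer.Sect X N), LinSer.IsLinSer k X N 2 1 t)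
    {M : X.Modules} (hM : PicF.IsInvertible M) (h0 : 2 ≤ Module.finrank k (Coh.HH X M 0))
    (h1 : 2 ≤ Module.finrank k (Coh.HH X M 1)) :
    2 * (Module.finrank k (Coh.HH X M 0) : ℤ) - 1 ≤ Curv2.deg k X M 1 := by
  by_contra hlt
  have hle := deg_le_of_special (k := k) hdim hM (by omega)
  obtain ⟨h2, -⟩ := CurveFormsLib.deg_cases (k := k) hdim hM (r := 1) (by omega)
  have hcl := CurveFF.clifford (k := k) hdim hM (by omega) (by omega)
  have hrr := h0_sub_h1 (k := k) (M := M) hdim
  exact hnh (CurveFF.exists_g12 (k := k) hdim hM (by omega) (by omega) (by omega))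

omit [IsAlgClosed k] [VBLib.IsRegCurve X] in
/-- Independent sections factoring through `M` bound its sections and its degree. -/
theorem factor_bounds {Ω M : X.Modules} (hΩ : PicF.IsInvertible Ω) (hM : PicF.IsInvertible M) (ι : M ⟶ Ω)
    {m : ℕ} {w : Fin m → LinSer.Sect X Ω} (hw : LinSer.LinIndep k X Ω w) (hm : 0 < m)
    (hfac : ∀ j, ∃ v : LinSer.Sect X M, (ι.val.app (op ⊤)).hom v = w j) :
    (∃ v : Fin m → LinSer.Sect X M, (∀ j, (ι.val.app (op ⊤)).hom (v j) = w j) ∧ LinSer.LinIndep k X M v) ∧
      Curv2.deg k X M 1 ≤ Curv2.deg k X Ω 1 := by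
  choose v hv using hfac
  refine ⟨⟨v, hv, fun c hc => hw c ?_⟩, (CurveLib.deg_le_of_ne_zero (k := k) hdim.le hM hΩ (φ := ι) fun h0 => ?_).1⟩
  · have h := congrArg (ι.val.app (op ⊤)).hom hc
    rw [map_zero, map_sum] at h
    refine Eq.trans (Finset.sum_congr rfl fun j _ => ?_) h
    rw [map_smul, hv]
  · subst h0
    have h1 := hw (Pi.single ⟨0, hm⟩ 1) (Finset.sum_eq_zero fun j _ => by
      rw [← hv j]
      exact smul_zero _)
    simpa using congrFun h1 ⟨0, hm⟩

end Groth.Agent.CliffOneLib
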